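import Cfsg.Agent.H47.Fi24.D9.Data

/-!
A checked coset table (generated data).
-/

set_option autoImplicit false
set_option maxRecDepth 100000
set_option linter.all false
set_option Elab.async false

namespace H47.Fi24.D9

open H93.Coset

noncomputable section

theorem edge5_0 : data.edgesFast 5 0 1565 = true := by decide +kernel

theorem edge5_1 : data.edgesFast 5 1565 1565 = true := by decide +kernel

theorem edge5_2 : data.edgesFast 5 3130 1565 = true := by decide +kernel

theorem edge5_3 : data.edgesFast 5 4695 1565 = true := by decide +kernel

theorem edge5_4 : data.edgesFast 5 6260 1565 = true := by decide +kernel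

theorem edge5_5 : data.edgesFast 5 7825 1565 = true := by decide +kernel

theorem edge5_6 : data.edgesFast 5 9390 1565 = true := by decide +kernel

theorem edge5_7 : data.edgesFast 5 10955 1565 = true := by decide +kernel

theorem edge5_8 : data.edgesFast 5 12520 1565 = true := by decide +kernel

theorem edge5_9 : data.edgesFast 5 14085 1565 = true := by decide +kernel

theorem edge5_10 : data.edgesFast 5 15650 1565 = true := by decide +kernel

theorem edge5_11 : data.edgesFast 5 17215 1565 = true := by decide +kernel

theorem edge5_12 : data.edgesFast 5 18780 1565 = true := by decide +kernel

theorem edge5_13 : data.edgesFast 5 20345 1565 = true := by decide +kernel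

theorem edge5_14 : data.edgesFast 5 21910 1565 = true := by decide +kernel

theorem edge5_15 : data.edgesFast 5 23475 1565 = true := by decide +kernel

theorem edge5_16 : data.edgesFast 5 25040 1565 = true := by decide +kernel

theorem edge5_17 : data.edgesFast 5 26605 1565 = true := by decide +kernel

theorem edge5_18 : data.edgesFast 5 28170 261 = true := by decide +kernel

theorem edge6_0 : data.edgesFast 6 0 1565 = true := by decide +kernel

theorem edge6_1 : data.edgesFast 6 1565 1565 = true := by decide +kernel

theorem edge6_2 : data.edgesFast 6 3130 1565 = true := by decide +kernel

theorem edge6_3 : data.edgesFast 6 4695 1565 = true := by decide +kernel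

theorem edge6_4 : data.edgesFast 6 6260 1565 = true := by decide +kernel

theorem edge6_5 : data.edgesFast 6 7825 1565 = true := by decide +kernel

theorem edge6_6 : data.edgesFast 6 9390 1565 = true := by decide +kernel

theorem edge6_7 : data.edgesFast 6 10955 1565 = true := by decide +kernel

theorem edge6_8 : data.edgesFast 6 12520 1565 = true := by decide +kernel

theorem edge6_9 : data.edgesFast 6 14085 1565 = true := by decide +kernel

theorem edge6_10 : data.edgesFast 6 15650 1565 = true := by decide +kernel

theorem edge6_11 : data.edgesFast 6 17215 1565 = true := by decide +kernel

theorem edge6_12 : data.edgesFast 6 18780 1565 = true := by decide +kernel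

theorem edge6_13 : data.edgesFast 6 20345 1565 = true := by decide +kernel

theorem edge6_14 : data.edgesFast 6 21910 1565 = true := by decide +kernel

theorem edge6_15 : data.edgesFast 6 23475 1565 = true := by decide +kernel

theorem edge6_16 : data.edgesFast 6 25040 1565 = true := by decide +kernel

theorem edge6_17 : data.edgesFast 6 26605 1565 = true := by decide +kernel

theorem edge6_18 : data.edgesFast 6 28170 261 = true := by decide +kernel


end

end H47.Fi24.D9
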