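import Cfsg.Agent.H47.Fi24.D9.Data

/-!
A checked coset table (generated data).
-/

set_option autoImplicit false
set_option maxRecDepth 100000
set_option linter.all false
set_option Elab.async false

namespace H47.Fi24.D9

open H93.Coset

noncomputable section

theorem edge0_0 : data.edgesFast 0 0 1565 = true := by decide +kernel

theorem edge0_1 : data.edgesFast 0 1565 1565 = true := by decide +kernel

theorem edge0_2 : data.edgesFast 0 3130 1565 = true := by decide +kernel

theorem edge0_3 : data.edgesFast 0 4695 1565 = true := by decide +kernel

theorem edge0_4 : data.edgesFast 0 6260 1565 = true := by decide +kernel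

theorem edge0_5 : data.edgesFast 0 7825 1565 = true := by decide +kernel

theorem edge0_6 : data.edgesFast 0 9390 1565 = true := by decide +kernel

theorem edge0_7 : data.edgesFast 0 10955 1565 = true := by decide +kernel

theorem edge0_8 : data.edgesFast 0 12520 1565 = true := by decide +kernel

theorem edge0_9 : data.edgesFast 0 14085 1565 = true := by decide +kernel

theorem edge0_10 : data.edgesFast 0 15650 1565 = true := by decide +kernel

theorem edge0_11 : data.edgesFast 0 17215 1565 = true := by decide +kernel

theorem edge0_12 : data.edgesFast 0 18780 1565 = true := by decide +kernel

theorem edge0_13 : data.edgesFast 0 20345 1565 = true := by decide +kernel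

theorem edge0_14 : data.edgesFast 0 21910 1565 = true := by decide +kernel

theorem edge0_15 : data.edgesFast 0 23475 1565 = true := by decide +kernel

theorem edge0_16 : data.edgesFast 0 25040 1565 = true := by decide +kernel

theorem edge0_17 : data.edgesFast 0 26605 1565 = true := by decide +kernel

theorem edge0_18 : data.edgesFast 0 28170 261 = true := by decide +kernel

theorem edge1_0 : data.edgesFast 1 0 1565 = true := by decide +kernel

theorem edge1_1 : data.edgesFast 1 1565 1565 = true := by decide +kernel

theorem edge1_2 : data.edgesFast 1 3130 1565 = true := by decide +kernel

theorem edge1_3 : data.edgesFast 1 4695 1565 = true := by decide +kernel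

theorem edge1_4 : data.edgesFast 1 6260 1565 = true := by decide +kernel

theorem edge1_5 : data.edgesFast 1 7825 1565 = true := by decide +kernel

theorem edge1_6 : data.edgesFast 1 9390 1565 = true := by decide +kernel

theorem edge1_7 : data.edgesFast 1 10955 1565 = true := by decide +kernel

theorem edge1_8 : data.edgesFast 1 12520 1565 = true := by decide +kernel

theorem edge1_9 : data.edgesFast 1 14085 1565 = true := by decide +kernel

theorem edge1_10 : data.edgesFast 1 15650 1565 = true := by decide +kernel

theorem edge1_11 : data.edgesFast 1 17215 1565 = true := by decide +kernel

theorem edge1_12 : data.edgesFast 1 18780 1565 = true := by decide +kernel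

theorem edge1_13 : data.edgesFast 1 20345 1565 = true := by decide +kernel

theorem edge1_14 : data.edgesFast 1 21910 1565 = true := by decide +kernel

theorem edge1_15 : data.edgesFast 1 23475 1565 = true := by decide +kernel

theorem edge1_16 : data.edgesFast 1 25040 1565 = true := by decide +kernel

theorem edge1_17 : data.edgesFast 1 26605 1565 = true := by decide +kernel

theorem edge1_18 : data.edgesFast 1 28170 261 = true := by decide +kernel

theorem edge2_0 : data.edgesFast 2 0 1565 = true := by decide +kernel

theorem edge2_1 : data.edgesFast 2 1565 1565 = true := by decide +kernel

theorem edge2_2 : data.edgesFast 2 3130 1565 = true := by decide +kernel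

theorem edge2_3 : data.edgesFast 2 4695 1565 = true := by decide +kernel

theorem edge2_4 : data.edgesFast 2 6260 1565 = true := by decide +kernel

theorem edge2_5 : data.edgesFast 2 7825 1565 = true := by decide +kernel

theorem edge2_6 : data.edgesFast 2 9390 1565 = true := by decide +kernel

theorem edge2_7 : data.edgesFast 2 10955 1565 = true := by decide +kernel

theorem edge2_8 : data.edgesFast 2 12520 1565 = true := by decide +kernel

theorem edge2_9 : data.edgesFast 2 14085 1565 = true := by decide +kernel

theorem edge2_10 : data.edgesFast 2 15650 1565 = true := by decide +kernel

theorem edge2_11 : data.edgesFast 2 17215 1565 = true := by decide +kernel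

theorem edge2_12 : data.edgesFast 2 18780 1565 = true := by decide +kernel

theorem edge2_13 : data.edgesFast 2 20345 1565 = true := by decide +kernel

theorem edge2_14 : data.edgesFast 2 21910 1565 = true := by decide +kernel

theorem edge2_15 : data.edgesFast 2 23475 1565 = true := by decide +kernel

theorem edge2_16 : data.edgesFast 2 25040 1565 = true := by decide +kernel

theorem edge2_17 : data.edgesFast 2 26605 1565 = true := by decide +kernel

theorem edge2_18 : data.edgesFast 2 28170 261 = true := by decide +kernel

theorem treeRow_0 : treeOK data 0 7040 = true := by decide +kernel

theorem treeRow_1 : treeOK data 7040 7040 = true := by decide +kernel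

theorem treeRow_2 : treeOK data 14080 7040 = true := by decide +kernel

theorem treeRow_3 : treeOK data 21120 7040 = true := by decide +kernel

theorem treeRow_4 : treeOK data 28160 271 = true := by decide +kernel


end

end H47.Fi24.D9
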